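import Cfsg.Agent.EqLemmas
import Cfsg.Agent.Lib.ZStar.Statements
import Cfsg.Agent.Lib.ZStar.Unique
import Cfsg.Agent.Lib.Biset.Transfer
import Cfsg.Agent.Lib.Fusion.Group

/-
The centre of the 2-fusion system of a finite group is `S ∩ Z*(G)`.
Main results: `central_mod_odd`, `center_groupFusion`.
-/

set_option autoImplicit false

namespace Cfsg.Agent.FusionZStar

open Cfsg Cfsg.FusionSystem Cfsg.Agent.Fusion

universe u

variable {G : Type u} [Group G] [Finite G]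

/-- An element of `P` whose only conjugate in `P` is itself: conjugates lying in `P O` are congruent to it. -/
theorem congr_of_isolated (P : Sylow 2 G) {z : G} (hz : z ∈ P)
    (hiso : ∀ g : G, g * z * g⁻¹ ∈ P → g * z * g⁻¹ = z) (O : Subgroup G) [O.Normal] {g : G}
    (hg : g * z * g⁻¹ ∈ (P : Subgroup G) ⊔ O) : z⁻¹ * (g * z * g⁻¹) ∈ O := by
  set H := (P : Subgroup G) ⊔ O
  set y := g * z * g⁻¹
  have hsyl : IsSylowIn 2 (P : Subgroup G) H :=
    ⟨le_sup_left, P.isPGroup', fun C hC _ hCp => P.is_maximal' hCp hC⟩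
  obtain ⟨k, hk⟩ := P.isPGroup' ⟨z, hz⟩
  have hy : IsPGroup 2 (Subgroup.zpowers y) := by
    rintro ⟨w, hw⟩
    obtain ⟨n, rfl⟩ := Subgroup.mem_zpowers_iff.1 hw
    refine ⟨k, Subtype.ext ?_⟩
    show (y ^ n) ^ 2 ^ k = 1
    have hzk : z ^ 2 ^ k = 1 := congrArg Subtype.val hk
    rw [← zpow_natCast, ← zpow_mul, mul_comm, zpow_mul, zpow_natCast, conj_pow, hzk, mul_one,
      mul_inv_cancel, one_zpow]
  obtain ⟨a, ha, hconj⟩ := hsyl.exists_conj_le hy (Subgroup.zpowers_le.2 hg)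
  obtain ⟨x, hx, o, ho, rfl⟩ := Subgroup.mem_sup_of_normal_right.1 ha
  have h1 : (x * o) * y * (x * o)⁻¹ ∈ P := hconj y (Subgroup.mem_zpowers y)
  have h2 : (x * o) * y * (x * o)⁻¹ = z := by
    have := hiso (x * o * g)
    rw [show x * o * g * z * (x * o * g)⁻¹ = x * o * y * (x * o)⁻¹ by simp only [y]; group] at this
    exact this h1
  have h3 : x⁻¹ * z * x = z := by
    have := hiso x⁻¹ (by
      rw [inv_inv]; exact (P : Subgroup G).mul_mem ((P : Subgroup G).mul_mem (inv_mem hx) hz) hx)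
    rwa [inv_inv] at this
  have h4 : o * y * o⁻¹ = z := by
    calc o * y * o⁻¹ = x⁻¹ * ((x * o) * y * (x * o)⁻¹) * x := by group
      _ = z := by rw [h2, h3]
  have h5 : z⁻¹ * y = (z⁻¹ * o⁻¹ * z) * o := by rw [← h4]; group
  rw [h5]
  refine O.mul_mem ?_ ho
  have := ‹O.Normal›.conj_mem o⁻¹ (inv_mem ho) z⁻¹
  rwa [inv_inv] at this

/-- A normal subgroup whose index over a central subgroup of order two modulo `O` is odd. -/
theorem le_sup_of_odd_quotient (O : Subgroup G) [O.Normal] (hO : O = pPrimeCore 2 G) {v : G}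
    (hv2 : v ^ 2 ∈ O) (hvc : ∀ g : G, v * g * v⁻¹ * g⁻¹ ∈ O) {K : Subgroup G} (hK : K.Normal)
    (hMK : O ⊔ Subgroup.zpowers v ≤ K)
    (hodd : ∀ x ∈ K, ∃ m : ℕ, Odd m ∧ x ^ m ∈ O ⊔ Subgroup.zpowers v) :
    K ≤ O ⊔ Subgroup.zpowers v := by
  set π := QuotientGroup.mk' O
  set w := π v with hw
  have hw2 : w ^ 2 = 1 := by rw [hw, ← map_pow]; exact (QuotientGroup.eq_one_iff _).2 hv2
  have hwc : ∀ y, w * y = y * w := by
    intro y
    obtain ⟨g, rfl⟩ := QuotientGroup.mk'_surjective O y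
    have h1 : π (v * g * v⁻¹ * g⁻¹) = 1 := (QuotientGroup.eq_one_iff _).2 (hvc g)
    rw [map_mul, map_mul, map_mul, map_inv, map_inv, mul_inv_eq_one, mul_inv_eq_iff_eq_mul] at h1
    exact h1
  set Kb := K.map π with hKb
  have hKbn : Kb.Normal := hK.map π (QuotientGroup.mk'_surjective O)
  set Mb := Subgroup.zpowers w
  have hpow : ∀ y ∈ Kb, ∃ m : ℕ, Odd m ∧ y ^ m ∈ Mb := by
    rintro _ ⟨x, hx, rfl⟩
    obtain ⟨m, hm, hmem⟩ := hodd x hx
    refine ⟨m, hm, ?_⟩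
    have hle : O ⊔ Subgroup.zpowers v ≤ Mb.comap π := sup_le
      (fun o ho => by
        show π o ∈ Mb
        rw [show π o = 1 from (QuotientGroup.eq_one_iff _).2 ho]; exact one_mem _)
      (Subgroup.zpowers_le.2 (Subgroup.mem_zpowers w))
    rw [← map_pow]
    exact hle hmem
  have hwK : w ∈ Kb := ⟨v, hMK (Subgroup.mem_sup_right (Subgroup.mem_zpowers v)), rfl⟩
  let N := Mb.subgroupOf Kb
  haveI : N.Normal := ⟨fun n hn g => by
    obtain ⟨i, hi⟩ := Subgroup.mem_zpowers_iff.1 (Subgroup.mem_subgroupOf.1 hn)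
    refine Subgroup.mem_subgroupOf.2 ?_
    show (g : G ⧸ O) * n * (g : G ⧸ O)⁻¹ ∈ Mb
    rw [← hi, ← (Commute.zpow_left (hwc g) i).eq, mul_inv_cancel_right]
    exact Subgroup.zpow_mem_zpowers w i⟩
  have hNcard : IsPGroup 2 N := by
    rintro ⟨⟨y, hy⟩, hyN⟩
    obtain ⟨i, hi⟩ := Subgroup.mem_zpowers_iff.1 (Subgroup.mem_subgroupOf.1 hyN)
    refine ⟨1, Subtype.ext (Subtype.ext ?_)⟩
    show y ^ 2 ^ 1 = 1
    have hi' : w ^ i = y := hi
    rw [pow_one, ← hi', ← zpow_natCast, ← zpow_mul, mul_comm, zpow_mul, zpow_natCast, hw2, one_zpow]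
  haveI : Fact (Nat.Prime 2) := ⟨Nat.prime_two⟩
  have hidx : ¬ 2 ∣ N.index := by
    intro h2
    obtain ⟨q, hq⟩ := exists_prime_orderOf_dvd_card' (G := Kb ⧸ N) 2 (by rwa [← Subgroup.index_eq_card])
    obtain ⟨⟨y, hy⟩, rfl⟩ := QuotientGroup.mk_surjective q
    obtain ⟨m, hm, hmem⟩ := hpow y hy
    have h3 : (QuotientGroup.mk (⟨y, hy⟩ : Kb) : Kb ⧸ N) ^ m = 1 := by
      rw [← QuotientGroup.mk_pow]
      exact (QuotientGroup.eq_one_iff _).2 (Subgroup.mem_subgroupOf.2 (by simpa using hmem))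
    have h4 := orderOf_dvd_of_pow_eq_one h3
    rw [hq] at h4
    exact (Nat.not_even_iff_odd.2 hm) (even_iff_two_dvd.2 h4)
  have hcop : (Nat.card N).Coprime N.index := by
    obtain ⟨j, hj⟩ := hNcard.exists_card_eq
    rw [hj]
    exact ((Nat.Prime.coprime_iff_not_dvd Nat.prime_two).2 hidx).pow_left j
  obtain ⟨C, hC⟩ := Subgroup.exists_right_complement'_of_coprime hcop
  have hCodd : Odd (Nat.card C) := by
    rw [← hC.symm.index_eq_card]
    exact Nat.not_even_iff_odd.1 fun h => hidx (even_iff_two_dvd.1 h)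

  -- the complement consists of all elements of odd order
  have hmemC : ∀ y : Kb, Odd (orderOf y) → y ∈ C := by
    intro y hy
    obtain ⟨⟨⟨n, hn⟩, ⟨c, hc⟩⟩, hnc⟩ := hC.2 y
    simp only at hnc
    obtain ⟨i, hi⟩ := Subgroup.mem_zpowers_iff.1 (Subgroup.mem_subgroupOf.1 hn)
    have hcomm : Commute n c := Subtype.ext (by
      show (n : G ⧸ O) * (c : G ⧸ O) = (c : G ⧸ O) * n
      rw [← hi]
      exact (Commute.zpow_left (hwc _) i).eq)
    have h1 : n ^ (orderOf y * Nat.card C) = 1 := by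
      have hc1 : c ^ Nat.card C = 1 := congrArg Subtype.val (pow_card_eq_one' (x := (⟨c, hc⟩ : C)))
      have h2 : (n * c) ^ (orderOf y * Nat.card C) = 1 := by
        rw [hnc, pow_mul, pow_orderOf_eq_one, one_pow]
      rw [hcomm.mul_pow] at h2
      have h3 : c ^ (orderOf y * Nat.card C) = 1 := by rw [mul_comm, pow_mul, hc1, one_pow]
      rwa [h3, mul_one] at h2
    have hn1 : n = 1 := by
      obtain ⟨j, hj⟩ := hNcard ⟨n, hn⟩
      have h2 : n ^ 2 ^ j = 1 := congrArg Subtype.val hj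
      have h3 := Nat.dvd_gcd (orderOf_dvd_of_pow_eq_one h1) (orderOf_dvd_of_pow_eq_one h2)
      rw [(((Nat.coprime_two_right).2 (hy.mul hCodd)).pow_right j).gcd_eq_one, Nat.dvd_one,
        orderOf_eq_one_iff] at h3
      exact h3
    rw [← hnc, hn1, one_mul]
    exact hc
  let D := C.map Kb.subtype
  have hDn : D.Normal := ⟨fun d hd g => by
    obtain ⟨c, hc, rfl⟩ := hd
    refine ⟨⟨g * (c : G ⧸ O) * g⁻¹, hKbn.conj_mem _ c.2 g⟩, hmemC _ ?_, rfl⟩
    have h1 : orderOf (⟨g * (c : G ⧸ O) * g⁻¹, hKbn.conj_mem _ c.2 g⟩ : Kb) = orderOf c := by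
      rw [← Subgroup.orderOf_coe, ← Subgroup.orderOf_coe c]
      exact MulEquiv.orderOf_eq (MulAut.conj g) (c : G ⧸ O)
    rw [h1]
    exact hCodd.of_dvd_nat (orderOf_dvd_of_pow_eq_one
      (congrArg Subtype.val (pow_card_eq_one' (x := (⟨c, hc⟩ : C)))))⟩
  have hDcard : (Nat.card D).Coprime 2 := by
    rw [Subgroup.card_map_of_injective Kb.subtype_injective]
    exact Nat.coprime_two_right.2 hCodd
  have hcore : pPrimeCore 2 (G ⧸ O) = ⊥ := by
    subst hO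
    exact Cores.pPrimeCore_quotient_self 2
  have hDbot : D = ⊥ := eq_bot_iff.2 (hcore ▸ Cores.le_pPrimeCore hDn hDcard)
  intro x hx
  obtain ⟨⟨⟨n, hn⟩, ⟨c, hc⟩⟩, hnc⟩ := hC.2 (⟨π x, x, hx, rfl⟩ : Kb)
  simp only at hnc
  have hc1 : c = 1 := by
    have : (c : G ⧸ O) ∈ D := ⟨c, hc, rfl⟩
    rw [hDbot] at this
    exact Subtype.ext (Subgroup.mem_bot.1 this)
  obtain ⟨i, hi⟩ := Subgroup.mem_zpowers_iff.1 (Subgroup.mem_subgroupOf.1 hn)
  have hx' : π x = π (v ^ i) := by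
    rw [map_zpow, hi]
    rw [hc1, mul_one] at hnc
    exact (congrArg Subtype.val hnc).symm
  have h6 : (v ^ i)⁻¹ * x ∈ O := QuotientGroup.eq.1 hx'.symm
  rw [show x = v ^ i * ((v ^ i)⁻¹ * x) by group]
  exact mul_mem (Subgroup.mem_sup_right (Subgroup.zpow_mem_zpowers v i)) (Subgroup.mem_sup_left h6)

/-- Elements all whose powers are isolated in a Sylow 2-subgroup are central modulo `O(G)`. -/
theorem central_mod_odd : ∀ (n : ℕ) (G : Type u) [Group G] [Finite G] (P : Sylow 2 G) (z : G),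
    z ∈ P → z ^ 2 ^ n = 1 →
    (∀ (k : ℕ) (g : G), g * z ^ k * g⁻¹ ∈ P → g * z ^ k * g⁻¹ = z ^ k) →
    ∀ g : G, z * g * z⁻¹ * g⁻¹ ∈ pPrimeCore 2 G := by
  intro n
  induction n with
  | zero =>
    intro G _ _ P z _ h1 _ g
    rw [pow_zero, pow_one] at h1
    subst h1
    simp
  | succ n ih =>
    intro G _ _ P z hz h1 hiso g
    set v := z ^ 2 ^ n with hv
    by_cases hv1 : v = 1
    · exact ih G P z hz hv1 hiso g
    have hv2 : v ^ 2 = 1 := by rw [hv, ← pow_mul, ← pow_succ, h1]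
    have hvord : orderOf v = 2 := orderOf_eq_prime hv2 hv1
    haveI : Fact (Nat.Prime 2) := ⟨Nat.prime_two⟩
    obtain ⟨N, hNn, hNodd, hN⟩ := ZStar.glauberman ZStar.uniqueInvolution P v hvord
      (pow_mem hz _) fun g hg => hiso (2 ^ n) g hg
    set O := pPrimeCore 2 G with hOdef
    haveI hOn : O.Normal := Cores.pPrimeCore_normal 2 G
    have hNO : N ≤ O := Cores.le_pPrimeCore hNn (Nat.coprime_two_right.2 hNodd)
    have hvc : ∀ g, v * g * v⁻¹ * g⁻¹ ∈ O := fun g => hNO (hN g)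
    set M := O ⊔ Subgroup.zpowers v with hM
    haveI hMn : M.Normal := ⟨fun m hm g => by
      obtain ⟨o, ho, x, hx, rfl⟩ := Subgroup.mem_sup_of_normal_left.1 hm
      obtain ⟨i, rfl⟩ := Subgroup.mem_zpowers_iff.1 hx
      have hconj : g * v * g⁻¹ ∈ M := by
        rw [show g * v * g⁻¹ = (v * g * v⁻¹ * g⁻¹)⁻¹ * v by group]
        exact mul_mem (Subgroup.mem_sup_left (inv_mem (hvc g)))
          (Subgroup.mem_sup_right (Subgroup.mem_zpowers v))
      rw [show g * (o * v ^ i) * g⁻¹ = (g * o * g⁻¹) * (g * v * g⁻¹) ^ i by rw [conj_zpow]; group]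
      exact mul_mem (Subgroup.mem_sup_left (hOn.conj_mem o ho g)) (zpow_mem hconj i)⟩
    have hPM : (P : Subgroup G) ⊔ M = (P : Subgroup G) ⊔ O := by
      refine le_antisymm (sup_le le_sup_left (sup_le le_sup_right ?_)) (sup_le_sup_left le_sup_left _)
      exact Subgroup.zpowers_le.2 (Subgroup.mem_sup_left (pow_mem hz _))
    let π := QuotientGroup.mk' M
    let Pb : Sylow 2 (G ⧸ M) := P.mapSurjective (QuotientGroup.mk'_surjective M)
    have hPb : ∀ {y : G}, π y ∈ Pb → y ∈ (P : Subgroup G) ⊔ O := by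
      intro y hy
      obtain ⟨x, hx, hxy⟩ := hy
      rw [← hPM, show y = x * (x⁻¹ * y) by group]
      exact Subgroup.mul_mem_sup hx (QuotientGroup.eq.1 hxy)
    have hkey : ∀ (k : ℕ) (h : G), h * z ^ k * h⁻¹ ∈ (P : Subgroup G) ⊔ O →
        (z ^ k)⁻¹ * (h * z ^ k * h⁻¹) ∈ O := fun k h hh =>
      congr_of_isolated P (pow_mem hz k) (hiso k) O hh
    have hc := ih (G ⧸ M) Pb (π z) ⟨z, hz, rfl⟩ (by
        rw [← map_pow]
        exact (QuotientGroup.eq_one_iff _).2 (Subgroup.mem_sup_right (Subgroup.mem_zpowers v)))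
      (fun k h hh => by
        obtain ⟨h, rfl⟩ := QuotientGroup.mk'_surjective M h
        rw [← map_pow, ← map_inv, ← map_mul, ← map_mul] at hh ⊢
        exact (QuotientGroup.eq.2 (Subgroup.mem_sup_left (hkey k h (hPb hh)))).symm) (π g)
    set K := (pPrimeCore 2 (G ⧸ M)).comap π with hK
    haveI : (pPrimeCore 2 (G ⧸ M)).Normal := Cores.pPrimeCore_normal 2 _
    have hKM : K ≤ M := by
      refine le_sup_of_odd_quotient O rfl (by rw [hv2]; exact one_mem _) hvc inferInstance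
        (fun m hm => ?_) fun x hx => ⟨Nat.card (pPrimeCore 2 (G ⧸ M)),
          Nat.coprime_two_right.1 (Cores.coprime_card_pPrimeCore 2), ?_⟩
      · show π m ∈ pPrimeCore 2 (G ⧸ M)
        rw [show π m = 1 from (QuotientGroup.eq_one_iff _).2 hm]
        exact one_mem _
      · refine (QuotientGroup.eq_one_iff _).1 ?_
        have := congrArg Subtype.val (pow_card_eq_one' (x := (⟨π x, hx⟩ : pPrimeCore 2 (G ⧸ M))))
        rw [SubgroupClass.coe_pow, OneMemClass.coe_one, ← map_pow] at this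
        exact this
    have hcM : z * g * z⁻¹ * g⁻¹ ∈ M := hKM (by
      show π (z * g * z⁻¹ * g⁻¹) ∈ pPrimeCore 2 (G ⧸ M)
      rw [map_mul, map_mul, map_mul, map_inv, map_inv]
      exact hc)
    -- `g z g⁻¹` lies in `P O`
    have hy : g * z * g⁻¹ ∈ (P : Subgroup G) ⊔ O := by
      rw [← hPM, show g * z * g⁻¹ = (z * g * z⁻¹ * g⁻¹)⁻¹ * z by group]
      exact mul_mem (Subgroup.mem_sup_right (inv_mem hcM)) (Subgroup.mem_sup_left hz)
    have h2 := hkey 1 g (by rwa [pow_one])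
    rw [pow_one] at h2
    rw [show z * g * z⁻¹ * g⁻¹ = z * (z⁻¹ * (g * z * g⁻¹))⁻¹ * z⁻¹ by group]
    exact hOn.conj_mem _ (inv_mem h2) z

/-- Glauberman's `Z*`-theorem for fusion systems. -/
theorem center_groupFusion (S : Sylow 2 G) :
    (groupFusionSystem (S : Subgroup G)).center = (S : Subgroup G) ⊓
      (Subgroup.center (G ⧸ pPrimeCore 2 G)).comap (QuotientGroup.mk' (pPrimeCore 2 G)) := by
  haveI : Fact (Nat.Prime 2) := ⟨Nat.prime_two⟩
  set F := groupFusionSystem (S : Subgroup G)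
  set O := pPrimeCore 2 G with hOdef
  haveI hOn : O.Normal := Cores.pPrimeCore_normal 2 G
  set π := QuotientGroup.mk' O
  have hcen : ∀ q : G, π q ∈ Subgroup.center (G ⧸ O) ↔ ∀ g : G, q * g * q⁻¹ * g⁻¹ ∈ O := by
    intro q
    rw [Subgroup.mem_center_iff]
    constructor
    · intro h g
      refine (QuotientGroup.eq_one_iff _).1 ?_
      show π (q * g * q⁻¹ * g⁻¹) = 1
      rw [map_mul, map_mul, map_mul, map_inv, map_inv, ← h (π g)]
      group
    · intro h y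
      obtain ⟨g, rfl⟩ := QuotientGroup.mk'_surjective O y
      have h1 : π (q * g * q⁻¹ * g⁻¹) = 1 := (QuotientGroup.eq_one_iff _).2 (h g)
      rw [map_mul, map_mul, map_mul, map_inv, map_inv, mul_inv_eq_one, mul_inv_eq_iff_eq_mul] at h1
      exact h1.symm
  refine le_antisymm (fun z hz => ?_) ?_
  · have hzS : z ∈ (S : Subgroup G) := (sSup_le fun Q hQ => hQ.1 : F.center ≤ (S : Subgroup G)) hz
    refine ⟨hzS, (hcen z).2 ?_⟩
    obtain ⟨n, hn⟩ := S.isPGroup' ⟨z, hzS⟩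
    refine central_mod_odd n G S z hzS (congrArg Subtype.val hn) fun k g hg => ?_
    have hm : IsMap F (Subgroup.zpowers (z ^ k)) (fun x => g * x * g⁻¹) := by
      refine isMap_group_iff.2 ⟨Subgroup.zpowers_le.2 (pow_mem hzS k), g, fun x hx => ⟨?_, rfl⟩⟩
      obtain ⟨i, rfl⟩ := Subgroup.mem_zpowers_iff.1 hx
      show g * (z ^ k) ^ i * g⁻¹ ∈ (S : Subgroup G)
      rw [← conj_zpow]
      exact zpow_mem hg i
    exact Biset.eq_of_mem_center (pow_mem hz k) hm (Subgroup.mem_zpowers _)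
  · set Q := (S : Subgroup G) ⊓ (Subgroup.center (G ⧸ O)).comap π with hQ
    have hQS : Q ≤ (S : Subgroup G) := inf_le_left
    have hQc : ∀ q ∈ Q, ∀ g : G, q * g * q⁻¹ * g⁻¹ ∈ O := fun q hq => (hcen q).1 hq.2
    have hdisj : ∀ x, x ∈ (S : Subgroup G) → x ∈ O → x = 1 := by
      intro x hxS hxO
      obtain ⟨j, hj⟩ := S.isPGroup' ⟨x, hxS⟩
      have h1 : x ^ 2 ^ j = 1 := congrArg Subtype.val hj
      have h2 : x ^ Nat.card O = 1 := congrArg Subtype.val (pow_card_eq_one' (x := (⟨x, hxO⟩ : O)))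
      have h3 := Nat.dvd_gcd (orderOf_dvd_of_pow_eq_one h2) (orderOf_dvd_of_pow_eq_one h1)
      rw [((Cores.coprime_card_pPrimeCore 2).pow_right j).gcd_eq_one, Nat.dvd_one,
        orderOf_eq_one_iff] at h3
      exact h3
    have hQn : ∀ n ∈ Subgroup.normalizer (Q : Set G), ∀ q ∈ Q, n * q = q * n := by
      intro n hn q hq
      have h1 := hdisj (q * n * q⁻¹ * n⁻¹) ?_ (hQc q hq n)
      · rw [mul_inv_eq_one, mul_inv_eq_iff_eq_mul] at h1
        exact h1.symm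
      · rw [show q * n * q⁻¹ * n⁻¹ = q * (n * q⁻¹ * n⁻¹) by group]
        exact hQS (Q.mul_mem hq ((Subgroup.mem_normalizer_iff.1 hn _).1 (inv_mem hq)))
    set QO := Q ⊔ O with hQO
    haveI hQOn : QO.Normal := ⟨fun m hm g => by
      obtain ⟨q, hq, o, ho, rfl⟩ := Subgroup.mem_sup_of_normal_right.1 hm
      rw [show g * (q * o) * g⁻¹ = (q * g * q⁻¹ * g⁻¹)⁻¹ * q * (g * o * g⁻¹) by group]
      exact mul_mem (mul_mem (Subgroup.mem_sup_right (inv_mem (hQc q hq g)))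
        (Subgroup.mem_sup_left hq)) (Subgroup.mem_sup_right (hOn.conj_mem o ho g))⟩
    -- `G = O C(Q)`
    have hQp : IsPGroup 2 (Q.subgroupOf QO) := (isPGroup_subgroupOf le_sup_left).2 (S.isPGroup'.to_le hQS)
    let R : Sylow 2 QO :=
      { toSubgroup := Q.subgroupOf QO
        isPGroup' := hQp
        is_maximal' := fun {C} hC hQC => by
          refine le_antisymm (fun c hc => ?_) hQC
          obtain ⟨q, hq, o, ho, hqo⟩ := Subgroup.mem_sup_of_normal_right.1 c.2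
          have hoc : (⟨o, Subgroup.mem_sup_right ho⟩ : QO) ∈ C := by
            have : (⟨o, Subgroup.mem_sup_right ho⟩ : QO) = (⟨q, Subgroup.mem_sup_left hq⟩ : QO)⁻¹ * c :=
              Subtype.ext (by show o = q⁻¹ * (c : G); rw [← hqo, inv_mul_cancel_left])
            rw [this]
            exact mul_mem (inv_mem (hQC (Subgroup.mem_subgroupOf.2 hq))) hc
          obtain ⟨j, hj⟩ := hC ⟨_, hoc⟩
          have h1 : o ^ 2 ^ j = 1 := congrArg (fun t : C => ((t : QO) : G)) hj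
          have h2 : o ^ Nat.card O = 1 := congrArg Subtype.val (pow_card_eq_one' (x := (⟨o, ho⟩ : O)))
          have h3 := Nat.dvd_gcd (orderOf_dvd_of_pow_eq_one h2) (orderOf_dvd_of_pow_eq_one h1)
          rw [((Cores.coprime_card_pPrimeCore 2).pow_right j).gcd_eq_one, Nat.dvd_one,
            orderOf_eq_one_iff] at h3
          refine Subgroup.mem_subgroupOf.2 ?_
          rw [← hqo, h3, mul_one]
          exact hq }
    have hfr := Sylow.normalizer_sup_eq_top R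
    have hR : (R : Subgroup QO).map QO.subtype = Q := Subgroup.map_subgroupOf_eq_of_le le_sup_left
    rw [hR] at hfr
    refine le_sSup (show F.IsCentral Q from ⟨hQS, fun P φ hφ => ?_⟩)
    obtain ⟨hPS, hφS, g, hg⟩ := hφ
    have hSQ : ∀ s ∈ (S : Subgroup G), ∀ q ∈ Q, s * q = q * s := by
      intro s hs q hq
      have h1 := hdisj (q * s * q⁻¹ * s⁻¹)
        (Subgroup.mul_mem _ (Subgroup.mul_mem _ (Subgroup.mul_mem _ (hQS hq) hs)
          (inv_mem (hQS hq))) (inv_mem hs)) (hQc q hq s)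
      rw [mul_inv_eq_one, mul_inv_eq_iff_eq_mul] at h1
      exact h1.symm
    have hgdec : ∃ o ∈ O, ∃ c, (∀ q ∈ Q, c * q = q * c) ∧ g = o * c := by
      have hg' : g ∈ Subgroup.normalizer (Q : Set G) ⊔ QO := hfr ▸ Subgroup.mem_top g
      obtain ⟨n, hn, m, hm, rfl⟩ := Subgroup.mem_sup_of_normal_right.1 hg'
      obtain ⟨q, hq, o, ho, rfl⟩ := Subgroup.mem_sup_of_normal_right.1 hm
      refine ⟨(n * q) * o * (n * q)⁻¹, hOn.conj_mem o ho _, n * q, fun q' hq' => ?_, by group⟩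
      rw [mul_assoc, ← hSQ q' (hQS hq') q hq, ← mul_assoc, hQn n hn q' hq', mul_assoc]
    obtain ⟨o, ho, c, hc, rfl⟩ := hgdec
    -- the complements `cPc⁻¹` and `o cPc⁻¹ o⁻¹` in `(O ∩ C(Q)) cPc⁻¹`
    let CQ : Subgroup G := Subgroup.centralizer (Q : Set G)
    have hcQ : c ∈ CQ := Subgroup.mem_centralizer_iff.2 fun q hq => (hc q hq).symm
    have hSC : ∀ s ∈ (S : Subgroup G), s ∈ CQ := fun s hs =>
      Subgroup.mem_centralizer_iff.2 fun q hq => (hSQ s hs q hq).symm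
    let P1 := P.map (MulAut.conj c).toMonoidHom
    have hP1 : ∀ y ∈ P1, y ∈ CQ ∧ o * y * o⁻¹ ∈ (S : Subgroup G) := by
      rintro _ ⟨x, hx, rfl⟩
      refine ⟨CQ.mul_mem (CQ.mul_mem hcQ (hSC x (hPS hx))) (inv_mem hcQ), ?_⟩
      have := hφS ⟨x, hx⟩
      rw [hg] at this
      show o * (c * x * c⁻¹) * o⁻¹ ∈ _
      rwa [show o * (c * x * c⁻¹) * o⁻¹ = o * c * x * (o * c)⁻¹ by group]
    let W := O ⊓ CQ
    have hW : ∀ y ∈ P1, o * y * o⁻¹ * y⁻¹ ∈ W := fun y hy => ⟨by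
      rw [show o * y * o⁻¹ * y⁻¹ = o * (y * o⁻¹ * y⁻¹) by group]
      exact mul_mem ho (hOn.conj_mem _ (inv_mem ho) y),
      CQ.mul_mem (hSC _ (hP1 y hy).2) (inv_mem (hP1 y hy).1)⟩
    have hP1p : IsPGroup 2 P1 := (S.isPGroup'.to_le hPS).map _
    have hWP : ∀ y ∈ P1, ∀ a ∈ W, y * a * y⁻¹ ∈ W := fun y hy a ha =>
      ⟨hOn.conj_mem a ha.1 y, CQ.mul_mem (CQ.mul_mem (hP1 y hy).1 ha.2) (inv_mem (hP1 y hy).1)⟩
    let H : Subgroup G :=
      { carrier := {h | ∃ a ∈ W, ∃ y ∈ P1, h = a * y}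
        one_mem' := ⟨1, one_mem _, 1, one_mem _, by simp⟩
        mul_mem' := by
          rintro _ _ ⟨a, ha, y, hy, rfl⟩ ⟨b, hb, y', hy', rfl⟩
          exact ⟨a * (y * b * y⁻¹), mul_mem ha (hWP y hy b hb), y * y', mul_mem hy hy', by group⟩
        inv_mem' := by
          rintro _ ⟨a, ha, y, hy, rfl⟩
          exact ⟨y⁻¹ * a⁻¹ * y⁻¹⁻¹, hWP _ (inv_mem hy) _ (inv_mem ha), y⁻¹, inv_mem hy, by group⟩ }
    have hsyl : IsSylowIn 2 P1 H := by
      refine ⟨fun y hy => ⟨1, one_mem _, y, hy, by simp⟩, hP1p, fun C hC hCH hCp => ?_⟩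
      refine le_antisymm (fun h hh => ?_) hC
      obtain ⟨a, ha, y, hy, rfl⟩ := hCH hh
      have haC : a ∈ C := by
        have := mul_mem hh (inv_mem (hC hy))
        rwa [mul_inv_cancel_right] at this
      obtain ⟨j, hj⟩ := hCp ⟨a, haC⟩
      have h1 : a ^ 2 ^ j = 1 := congrArg Subtype.val hj
      have h2 : a ^ Nat.card O = 1 := congrArg Subtype.val (pow_card_eq_one' (x := (⟨a, ha.1⟩ : O)))
      have h3 := Nat.dvd_gcd (orderOf_dvd_of_pow_eq_one h2) (orderOf_dvd_of_pow_eq_one h1)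
      rw [((Cores.coprime_card_pPrimeCore 2).pow_right j).gcd_eq_one, Nat.dvd_one,
        orderOf_eq_one_iff] at h3
      rw [h3, one_mul]
      exact hy
    let P2 := P1.map (MulAut.conj o).toMonoidHom
    have hP2H : P2 ≤ H := by
      rintro _ ⟨y, hy, rfl⟩
      exact ⟨_, hW y hy, y, hy, (inv_mul_cancel_right _ _).symm⟩
    obtain ⟨h, hh, hconj⟩ := hsyl.exists_conj_le (hP1p.map _) hP2H
    obtain ⟨a₁, ha₁, y0, hy0, rfl⟩ := hh
    obtain ⟨a, ha, haeq⟩ : ∃ a ∈ W, a₁ * y0 = y0 * a := ⟨y0⁻¹ * a₁ * y0⁻¹⁻¹,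
      hWP _ (inv_mem hy0) _ ha₁, by group⟩
    have key : ∀ y ∈ P1, a⁻¹ * y * a = o * y * o⁻¹ := by
      intro y hy
      have h1 : a₁ * y0 * (o * y * o⁻¹) * (a₁ * y0)⁻¹ ∈ P1 := hconj _ ⟨y, hy, rfl⟩
      rw [haeq] at h1
      have h1' : a * (o * y * o⁻¹) * a⁻¹ ∈ P1 := by
        have h1b := mul_mem (mul_mem (inv_mem hy0) h1) hy0
        rwa [show y0⁻¹ * (y0 * a * (o * y * o⁻¹) * (y0 * a)⁻¹) * y0 =
          a * (o * y * o⁻¹) * a⁻¹ by group] at h1b
      have h2 : a * (o * y * o⁻¹) * a⁻¹ * y⁻¹ ∈ O := by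
        rw [show a * (o * y * o⁻¹) * a⁻¹ * y⁻¹ = a * (o * y * o⁻¹ * y⁻¹) * (y * a⁻¹ * y⁻¹) by group]
        exact mul_mem (mul_mem ha.1 (hW y hy).1) (hOn.conj_mem _ (inv_mem ha.1) y)
      have h3 : a * (o * y * o⁻¹) * a⁻¹ * y⁻¹ = 1 := by
        obtain ⟨j, hj⟩ := hP1p ⟨_, mul_mem h1' (inv_mem hy)⟩
        have e1 : (a * (o * y * o⁻¹) * a⁻¹ * y⁻¹) ^ 2 ^ j = 1 := congrArg Subtype.val hj
        have e2 := congrArg Subtype.val (pow_card_eq_one' (x := (⟨_, h2⟩ : O)))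
        rw [SubgroupClass.coe_pow, OneMemClass.coe_one] at e2
        have e3 := Nat.dvd_gcd (orderOf_dvd_of_pow_eq_one e2) (orderOf_dvd_of_pow_eq_one e1)
        rwa [((Cores.coprime_card_pPrimeCore 2).pow_right j).gcd_eq_one, Nat.dvd_one,
          orderOf_eq_one_iff] at e3
      rw [mul_inv_eq_one] at h3
      conv_lhs => rw [← h3]
      group
    have haQ : a⁻¹ * c ∈ CQ := CQ.mul_mem (inv_mem ha.2) hcQ
    have hψP : ∀ x : P, (a⁻¹ * c) * (x : G) * (a⁻¹ * c)⁻¹ = φ x := by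
      intro x
      have h1 : a⁻¹ * (c * x * c⁻¹) * a = o * (c * x * c⁻¹) * o⁻¹ := key _ ⟨x, x.2, rfl⟩
      rw [hg x, show a⁻¹ * c * x * (a⁻¹ * c)⁻¹ = a⁻¹ * (c * x * c⁻¹) * a by group, h1]
      group
    have hψQ : ∀ q ∈ Q, (a⁻¹ * c) * q * (a⁻¹ * c)⁻¹ = q := by
      intro q hq
      rw [← Subgroup.mem_centralizer_iff.1 haQ q hq, mul_inv_cancel_right]
    refine ⟨conjHom (P ⊔ Q) (a⁻¹ * c), ⟨sup_le hPS hQS, fun x => ?_, a⁻¹ * c, fun x => rfl⟩,
      fun x => hψP x, fun x => hψQ x x.2⟩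
    have hle : P ⊔ Q ≤ (S : Subgroup G).comap (MulAut.conj (a⁻¹ * c)).toMonoidHom := by
      refine sup_le (fun x hx => ?_) fun q hq => ?_
      · show (a⁻¹ * c) * x * (a⁻¹ * c)⁻¹ ∈ (S : Subgroup G)
        rw [hψP ⟨x, hx⟩]
        exact hφS _
      · show (a⁻¹ * c) * q * (a⁻¹ * c)⁻¹ ∈ (S : Subgroup G)
        rw [hψQ q hq]
        exact hQS hq
    exact hle x.2

end Cfsg.Agent.FusionZStar
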